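import Cfsg.Agent.H268.K4.RowX
import Cfsg.Agent.H268.K4.MEleven
import Cfsg.Agent.H268.K4.IndexTwo
import Cfsg.Agent.H268.K4B0.IndexTwo
import Cfsg.Agent.H714.K4.Red
import Cfsg.Agent.H514.K4B0.Red
import Cfsg.Agent.H716.K4B0.Inp
import Cfsg.Agent.H395.K4.M12
import Cfsg.Agent.H921.K4.M22
import Cfsg.Agent.H921.K4.M23Good
import Cfsg.Agent.H492.K4J4
import Cfsg.Agent.H345.K4.Co2
import Cfsg.Agent.H329.K4.He
import Cfsg.Agent.H38.K4.HN
import Cfsg.Agent.H740.K4.M
import Cfsg.Agent.H805.K4.TitsRow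
import Cfsg.Agent.H535.K4.J1
import Cfsg.Agent.H90.K4.JThree
import Cfsg.Agent.H819.K4.HS
import Cfsg.Agent.H345.K4.Co1
import Cfsg.Agent.H492.K4ThFin
import Cfsg.Agent.H300.K4.JTwo
import Cfsg.Agent.H535.K4.ON
import Cfsg.Agent.H769.K4.CoThree
import Cfsg.Agent.H299.K4.Suz
import Cfsg.Agent.H956.K4.McLRow
import Cfsg.Agent.H645.K4.RowB
import Cfsg.Agent.H967.K4.Final
import Cfsg.Agent.H268.K4.SmallEven
import Cfsg.Agent.H687.FourK.MTwentyFour
import Cfsg.Agent.H536.K4.Ru
import Cfsg.Agent.H989.TwoCSpor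
import Cfsg.Agent.H714.Fi22.Row
import Cfsg.Agent.H293.F23B.Row
import Cfsg.Agent.H593.K4.Fi24Odd
import Cfsg.Agent.H714.Ly.Row

/-!
# S4947 and S4925: the rows for the simple groups

`rowX_known` : every known finite simple nonabelian group has the row `RowX`.
-/

set_option autoImplicit false

namespace Cfsg.Agent.H268.K4.Final

open Cfsg Cfsg.Agent.H714.K4 Cfsg.Agent.H775.K4.Known Cfsg.Agent.H268.K4

universe u

/-- characteristic two -/
theorem rowX_lie_two {S : Type} [Group S] [Finite S] [IsSimpleGroup S] (h : IsLieTypeChar 2 S) : RowX S := by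
  rcases H967.K4.good_lie_two h with h | ⟨F, _, _, _, h4, ⟨e⟩⟩ | ⟨F, _, _, _, h2, ⟨e⟩⟩
  · exact RowX.of_good h
  · exact SmallEven.rowX_psl2_four h4 e
  · exact SmallEven.rowX_psl3_two h2 e

/-- the known simple groups in `Type` -/
theorem rowX_known (hK : ∀ (S : Type) [Group S] [Finite S] [IsSimpleGroup S], IsKnownSimple' S) {S : Type} [Group S] [Finite S] [IsSimpleGroup S]
    (hna : ¬ IsMulCommutative S) (h : IsKnownSimple' S) : RowX S := by
  rcases OddHalf.Known.classify hna h with ⟨n, hn, ⟨e⟩⟩ | ⟨p, hp, hp2, h⟩ | (h | h) | h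
  · exact (RowX.of_good_alt hn).congr e.symm
  · exact rowX_lie_odd hp hp2 h
  · exact rowX_lie_two h
  · exact RowX.of_odd (H805.K4.Tits.odd5_tits h) (H989.TwoCSpor.twoC_tits h)
  · rcases h with h | h | h | h | h | h | h | h | h | h | h | h | h | h | h | h | h | h |
      h | h | h | h | h | h | h | h
    · exact RowX.of_four (MEleven.four_of_iso h)
    · exact RowX.of_good (H395.K4.M12.good5 h)
    · exact RowX.of_good (H921.K4.M22.good5 h)
    · exact RowX.of_good (H921.K4.M23.good5 h)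
    · exact RowX.of_good (H687.FourK.MTwentyFour.good5 h)
    · exact RowX.of_good (H535.K4.J1.good5_j1 h)
    · exact RowX.of_good (H300.K4.JTwo.good5 h)
    · exact RowX.of_good (H90.K4.JThree.good5 h)
    · exact RowX.of_good (H492.K4J4.good5_j4 h)
    · exact RowX.of_good (H345.K4.Co1.good5_co1 h)
    · exact RowX.of_good (H345.K4.Co2.good5_co2 h)
    · exact RowX.of_good (H769.K4.CoThree.good5_co3 h)
    · exact RowX.of_good (H956.K4.McLRow.good5_mcl h)
    · exact RowX.of_good (H819.K4.HS.good5 h)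
    · exact RowX.of_good (H299.K4.SuzRow.good5 h)
    · exact RowX.of_good (H329.K4.He.good5_he h)
    · exact RowX.of_rowA (H536.K4.Ru.rowA h) (H989.TwoCSpor.twoC_ru h)
    · exact RowX.of_good (H535.K4.ON.good5_on h)
    · rcases H714.Ly.Row.odd5_or_fourReal_ly hK h with h' | h'
      · exact RowX.of_odd h' (H989.TwoCSpor.twoC_ly h)
      · exact RowX.of_four h'
    · exact RowX.of_good (H714.Fi22.Row.good5_fi22 h)
    · exact RowX.of_good (H293.F23B.good5 h)
    · exact RowX.of_odd (H593.K4.odd5_fi24 h) (H989.TwoCSpor.twoC_fi24 h)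
    · exact RowX.of_good (H38.K4.HN.good5 h)
    · exact RowX.of_good (H492.K4ThFin.good5_th h)
    · exact RowX.of_good (H645.K4.B.good5_b h)
    · exact RowX.of_good (H740.K4.M.good5_m h)

/-- all universes -/
theorem rowX_all (hK : ∀ (S : Type) [Group S] [Finite S] [IsSimpleGroup S], IsKnownSimple' S)
    {S : Type u} [Group S] [Finite S] [IsSimpleGroup S] (hna : ¬ IsMulCommutative S) : RowX S := by
  obtain ⟨S', _, _, _, hna', ⟨e⟩⟩ := exists_type S hna
  exact (rowX_known hK hna' (hK S')).congr e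

/-- **S4947**, from the classification. -/
theorem main (hK : ∀ (S : Type) [Group S] [Finite S] [IsSimpleGroup S], IsKnownSimple' S)
    {G : Type u} [Group G] [Finite G] (h4 : k0 G = 4) (P : Sylow 2 G) : (commutator ↥P).index = 4 :=
  H714.K4.reduction (fun _ _ _ h4 ⟨K, hK⟩ P => IndexTwo.index_four_of_index_two h4 K hK P)
    (fun _ _ _ _ hna => (rowX_all hK hna).rowA) G h4 P

/-- **The essential case `p = 2` of S4925**, from the classification. -/
theorem mainB (hK : ∀ (S : Type) [Group S] [Finite S] [IsSimpleGroup S], IsKnownSimple' S)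
    {M : Ideal AlgInt} (hM : IsPModular 2 M) {G : Type u} [Group G] [Finite G] (h4 : H514.K4B0.kb M G = 4)
    (P : Sylow 2 G) : (commutator ↥P).index = 4 :=
  H514.K4B0.reduction hM (fun _ _ _ h4 ⟨K, hK⟩ P => K4B0.index_four_of_index_two hM h4 K hK P)
    (H716.K4B0.oddIdxB hM) (fun _ _ _ _ hna => (rowX_all hK hna).rowAB hM) G h4 P

end Cfsg.Agent.H268.K4.Final
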